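import Mathlib.RingTheory.UniqueFactorizationDomain.ClassGroup
import Mathlib.RingTheory.Ideal.UFD
import Mathlib.GroupTheory.Finiteness

/-!
# Finite generation of the class group of a locally factorial Noetherian domain with a factorial localization

Let `B` be a Noetherian domain all of whose local rings are factorial, and `g ≠ 0` an element such that `B[1/g]` is
factorial.  Then the class group of `B` is generated by the classes of the minimal primes of `(g)`.
-/

set_option autoImplicit false

open FractionalIdeal nonZeroDivisors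

namespace Groth.Agent.MultTori.K984

section
variable {B : Type*} [CommRing B] [IsDomain B] (K : Type*) [Field K] [Algebra B K] [IsFractionRing B K]

theorem isUnit_of_mul_eq_span {I J : Ideal B} {x : B} (hx : x ≠ 0) (h : I * J = Ideal.span {x}) :
    IsUnit (I : FractionalIdeal B⁰ K) := by
  refine IsUnit.of_mul_eq_one (J * spanSingleton B⁰ (algebraMap B K x)⁻¹) ?_
  rw [← mul_assoc, ← coeIdeal_mul, h, coeIdeal_span_singleton, spanSingleton_mul_spanSingleton,
    mul_inv_cancel₀ (by simpa using hx), spanSingleton_one]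

theorem exists_mul_eq_span {I : Ideal B} (hI : IsUnit (I : FractionalIdeal B⁰ K)) :
    ∃ (J : Ideal B) (x : B), x ≠ 0 ∧ I * J = Ideal.span {x} := by
  obtain ⟨a, J, ha0, h⟩ := exists_eq_spanSingleton_mul (I : FractionalIdeal B⁰ K)⁻¹
  refine ⟨J, a, ha0, (coeIdeal_inj (K := K)).mp ?_⟩
  have ha : algebraMap B K a ≠ 0 := by simpa using ha0
  have h2 : (I : FractionalIdeal B⁰ K) * (I : FractionalIdeal B⁰ K)⁻¹ = 1 :=
    (mul_inv_cancel_iff_isUnit _).mpr hI
  rw [h] at h2
  rw [coeIdeal_mul, coeIdeal_span_singleton]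
  calc (I : FractionalIdeal B⁰ K) * J
      = spanSingleton B⁰ (algebraMap B K a) * (I * (spanSingleton B⁰ (algebraMap B K a)⁻¹ * J)) := by
        rw [mul_left_comm (I : FractionalIdeal B⁰ K), ← mul_assoc, spanSingleton_mul_spanSingleton,
          mul_inv_cancel₀ ha, spanSingleton_one, one_mul]
    _ = spanSingleton B⁰ (algebraMap B K a) := by rw [h2, mul_one]

/-- A prime ideal minimal over an invertible ideal has height at most one. -/
theorem height_le_one [IsNoetherianRing B] {I J : Ideal B} {x : B} (hx : x ≠ 0) (h : I * J = Ideal.span {x})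
    (P : Ideal B) (hP : P ∈ I.minimalPrimes) : P.height ≤ 1 := by
  have hPp : P.IsPrime := hP.1.1
  have key : ∃ a ∈ I, ∃ c, c ∉ P ∧ ∀ z ∈ I, c * z ∈ Ideal.span {a} := by
    by_contra hcon
    push Not at hcon
    have hle : I * J ≤ Ideal.span {x} * P := by
      refine Ideal.mul_le.mpr fun a ha b hb => ?_
      obtain ⟨c, hc⟩ := Ideal.mem_span_singleton'.mp (h ▸ Ideal.mul_mem_mul ha hb : a * b ∈ Ideal.span {x})
      rw [← hc, mul_comm c x]
      refine Ideal.mul_mem_mul (Ideal.mem_span_singleton_self x) ?_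
      by_contra hcP
      obtain ⟨z, hz, hz'⟩ := hcon a ha c hcP
      obtain ⟨d, hd⟩ := Ideal.mem_span_singleton'.mp (h ▸ Ideal.mul_mem_mul hz hb : z * b ∈ Ideal.span {x})
      apply hz'
      refine Ideal.mem_span_singleton'.mpr ⟨d, ?_⟩
      apply mul_right_cancel₀ hx
      calc d * a * x = a * (d * x) := by ring
        _ = a * (z * b) := by rw [hd]
        _ = z * (a * b) := by ring
        _ = z * (c * x) := by rw [hc]
        _ = c * z * x := by ring
    have hxm : x ∈ Ideal.span {x} * P := hle (h ▸ Ideal.mem_span_singleton_self x)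
    obtain ⟨p, hp, hp'⟩ := Ideal.mem_span_singleton_mul.mp hxm
    have : p = 1 := mul_left_cancel₀ hx (by rw [hp', mul_one])
    exact hPp.ne_top ((Ideal.eq_top_iff_one _).mpr (this ▸ hp))
  obtain ⟨a, ha, c, hc, hz⟩ := key
  refine Ideal.height_le_one_of_isPrincipal_of_mem_minimalPrimes (Ideal.span {a}) P ⟨⟨hPp, ?_⟩, ?_⟩
  · exact (Ideal.span_singleton_le_iff_mem _).mpr (hP.1.2 ha)
  · rintro Q ⟨hQ, haQ⟩ hQP
    refine hP.2 ⟨hQ, fun z hzI => ?_⟩ hQP
    exact (hQ.mem_or_mem (haQ (hz z hzI))).resolve_left fun hcQ => hc (hQP hcQ)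

/-- A height one prime ideal of a locally factorial domain is invertible. -/
theorem exists_mul_eq_of_height_eq_one [IsNoetherianRing B]
    (hB : ∀ (m : Ideal B) [m.IsMaximal], UniqueFactorizationMonoid (Localization.AtPrime m))
    (P : Ideal B) [P.IsPrime] (hP : P.height = 1) :
    ∃ (J : Ideal B) (x : B), x ≠ 0 ∧ P * J = Ideal.span {x} := by
  obtain ⟨x, hxP, hx⟩ := Submodule.exists_mem_ne_zero_of_ne_bot (P.ne_bot_of_height_eq_one hP)
  let J : Ideal B := (Ideal.span {x}).colon P
  refine ⟨J, x, hx, le_antisymm ?_ ?_⟩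
  · refine Ideal.mul_le.mpr fun a ha b hb => ?_
    rw [mul_comm]
    exact Submodule.mem_colon.mp hb a ha
  · rw [Ideal.span_singleton_le_iff_mem]
    let N : Ideal B := (P * J).colon {x}
    have hN : N = ⊤ := by
      by_contra hne
      obtain ⟨m, hm, hNm⟩ := Ideal.exists_le_maximal N hne
      have key : ∃ a ∈ P, ∃ s, s ∉ m ∧ ∀ z ∈ P, s * z ∈ Ideal.span {a} := by
        by_cases hPm : P ≤ m
        · have hufd := hB m
          have hdisj : Disjoint (m.primeCompl : Set B) P := by
            rw [Set.disjoint_left]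
            exact fun y hy hy' => hy (hPm hy')
          have hpr : (P.map (algebraMap B (Localization.AtPrime m))).IsPrime :=
            IsLocalization.isPrime_of_isPrime_disjoint m.primeCompl _ P inferInstance hdisj
          have hht : (P.map (algebraMap B (Localization.AtPrime m))).height = 1 := by
            rw [← IsLocalization.height_under m.primeCompl,
              IsLocalization.under_map_of_isPrime_disjoint m.primeCompl (Localization.AtPrime m) inferInstance hdisj, hP]
          obtain ⟨π, hπ⟩ := UniqueFactorizationMonoid.isPrincipal_of_height_eq_one hht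
          change _ = Ideal.span {π} at hπ
          have hπm : π ∈ P.map (algebraMap B (Localization.AtPrime m)) := hπ ▸ Ideal.mem_span_singleton_self π
          obtain ⟨⟨⟨a, ha⟩, s₀⟩, has⟩ := (IsLocalization.mem_map_algebraMap_iff m.primeCompl _).mp hπm
          dsimp only at has
          have hloc : ∀ z ∈ P, ∃ s : B, s ∉ m ∧ s * z ∈ Ideal.span {a} := by
            intro z hz
            have h1 : algebraMap B (Localization.AtPrime m) z ∈ Ideal.span {π} := hπ ▸ Ideal.mem_map_of_mem _ hz
            obtain ⟨c, hc⟩ := Ideal.mem_span_singleton'.mp h1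
            have h2 : algebraMap B (Localization.AtPrime m) z ∈
                (Ideal.span {a}).map (algebraMap B (Localization.AtPrime m)) := by
              have hu := IsLocalization.map_units (Localization.AtPrime m) s₀
              rw [Ideal.map_span, Set.image_singleton, ← has, ← hc]
              rw [Ideal.mem_span_singleton', ]
              obtain ⟨u, hu⟩ := hu
              refine ⟨c * (u⁻¹ : (Localization.AtPrime m)ˣ), ?_⟩
              rw [← hu]
              calc c * ((u⁻¹ : (Localization.AtPrime m)ˣ) : Localization.AtPrime m) * (π * u)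
                  = c * π * (((u⁻¹ : (Localization.AtPrime m)ˣ) : Localization.AtPrime m) * u) := by ring
                _ = c * π := by rw [Units.inv_mul, mul_one]
            obtain ⟨⟨⟨b, hb⟩, s⟩, hbs⟩ := (IsLocalization.mem_map_algebraMap_iff m.primeCompl _).mp h2
            dsimp only at hbs
            refine ⟨s, s.2, ?_⟩
            rw [← map_mul] at hbs
            have := IsLocalization.injective (Localization.AtPrime m) m.primeCompl_le_nonZeroDivisors hbs
            rw [mul_comm, this]
            exact hb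
          obtain ⟨S, hS⟩ := (isNoetherianRing_iff_ideal_fg B).mp inferInstance P
          choose! s hs hs' using hloc
          refine ⟨a, ha, ∏ z ∈ S, s z, ?_, ?_⟩
          · have : ∏ z ∈ S, s z ∈ m.primeCompl :=
              Submonoid.prod_mem _ fun z hz => hs z (hS ▸ Ideal.subset_span hz)
            exact this
          · intro z hz
            rw [← hS] at hz
            refine Submodule.span_induction (p := fun z _ => (∏ z ∈ S, s z) * z ∈ Ideal.span {a})
              ?_ ?_ ?_ ?_ hz
            · intro y hy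
              obtain ⟨t, ht⟩ := Finset.dvd_prod_of_mem s hy
              rw [ht, mul_right_comm, mul_comm]
              exact Ideal.mul_mem_left _ _ (hs' y (hS ▸ Ideal.subset_span hy))
            · simp
            · intro y y' _ _ h1 h2
              rw [mul_add]
              exact add_mem h1 h2
            · intro b y _ h1
              rw [smul_eq_mul, mul_left_comm]
              exact Ideal.mul_mem_left _ _ h1
        · obtain ⟨s, hsP, hsm⟩ := SetLike.not_le_iff_exists.mp hPm
          exact ⟨s, hsP, s, hsm, fun z _ => Ideal.mul_mem_right _ _ (Ideal.mem_span_singleton_self s)⟩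
      obtain ⟨a, ha, s, hs, hsz⟩ := key
      apply hs
      apply hNm
      obtain ⟨d, hd⟩ := Ideal.mem_span_singleton'.mp (hsz x hxP)
      have ha0 : a ≠ 0 := by
        rintro rfl
        rw [mul_zero] at hd
        rcases mul_eq_zero.mp hd.symm with h | h
        · exact hs (h ▸ m.zero_mem)
        · exact hx h
      have hdJ : d ∈ J := by
        refine Submodule.mem_colon.mpr fun z hz => ?_
        obtain ⟨e, he⟩ := Ideal.mem_span_singleton'.mp (hsz z hz)
        refine Ideal.mem_span_singleton'.mpr ⟨e, ?_⟩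
        apply mul_right_cancel₀ ha0
        calc e * x * a = (e * a) * x := by ring
          _ = s * z * x := by rw [he]
          _ = z * (s * x) := by ring
          _ = z * (d * a) := by rw [hd]
          _ = d • z * a := by rw [smul_eq_mul]; ring
      refine Submodule.mem_colon_singleton.mpr ?_
      rw [smul_eq_mul, ← hd, mul_comm d a]
      exact Ideal.mul_mem_mul ha hdJ
    have h1 : (1 : B) ∈ N := hN ▸ Submodule.mem_top
    simpa using Submodule.mem_colon_singleton.mp h1

/-- The generators of the group of invertible fractional ideals modulo the principal ones. -/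
def gens (g : B) : Set (FractionalIdeal B⁰ K)ˣ :=
  {u | ∃ P ∈ (Ideal.span {g}).minimalPrimes, (u : FractionalIdeal B⁰ K) = P}

theorem finite_gens [IsNoetherianRing B] (g : B) : (gens K g).Finite := by
  refine Set.Finite.subset (Set.Finite.preimage (f := (Units.val : (FractionalIdeal B⁰ K)ˣ → _))
    Units.val_injective.injOn
    (((Ideal.span {g}).finite_minimalPrimes_of_isNoetherianRing B).image
      (fun P : Ideal B => (P : FractionalIdeal B⁰ K)))) ?_
  rintro u ⟨P, hP, h⟩
  exact ⟨P, hP, h.symm⟩

def grp (g : B) : Subgroup (FractionalIdeal B⁰ K)ˣ := Subgroup.closure (gens K g) ⊔ (toPrincipalIdeal B K).range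

theorem mem_grp_of_pow_mem [IsNoetherianRing B]
    (hB : ∀ (m : Ideal B) [m.IsMaximal], UniqueFactorizationMonoid (Localization.AtPrime m))
    (g : B) (hg : g ≠ 0) (I : Ideal B) : ∀ (u : (FractionalIdeal B⁰ K)ˣ)
      (_ : (u : FractionalIdeal B⁰ K) = I) (n : ℕ) (_ : g ^ n ∈ I), u ∈ grp K g := by
  induction I using WellFoundedGT.induction with
  | ind I ih =>
    intro u hu n hn
    by_cases hI : I = ⊤
    · have : u = 1 := Units.ext (by rw [hu, hI]; simp)
      rw [this]
      exact one_mem _
    · obtain ⟨m, hm, hIm⟩ := Ideal.exists_le_maximal I hI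
      obtain ⟨P, hP, hPm⟩ := Ideal.exists_minimalPrimes_le hIm
      have hPp : P.IsPrime := hP.1.1
      obtain ⟨J, x, hx, hJ⟩ := exists_mul_eq_span K (I := I) (hu ▸ u.isUnit)
      have hle := height_le_one hx hJ P hP
      have hgP : g ∈ P := hPp.mem_of_pow_mem n (hP.1.2 hn)
      have hP0 : P ≠ ⊥ := by
        rintro rfl
        exact hg hgP
      have hmin : ∀ (Q : Ideal B) [Q.IsPrime], Q ≠ ⊥ → Q ≤ P → Q = P := by
        intro Q _ hQ hQP
        by_contra hne
        have h1 := (Ideal.height_strict_mono_of_isPrime_of_isPrime (lt_of_le_of_ne hQP hne)).trans_le hle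
        rw [Order.lt_one_iff, Ideal.height_eq_zero_iff, IsDomain.minimalPrimes_eq_singleton_bot] at h1
        exact hQ h1
      have hPg : P ∈ (Ideal.span {g}).minimalPrimes := by
        refine ⟨⟨hPp, (Ideal.span_singleton_le_iff_mem _).mpr hgP⟩, ?_⟩
        rintro Q ⟨hQ, hgQ⟩ hQP
        refine (hmin Q ?_ hQP).ge
        rintro rfl
        exact hg (hgQ (Ideal.mem_span_singleton_self g))
      have hht : P.height = 1 := by
        refine le_antisymm hle ?_
        rw [Order.one_le_iff_ne_zero]
        intro h0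
        rw [Ideal.height_eq_zero_iff, IsDomain.minimalPrimes_eq_singleton_bot] at h0
        exact hP0 h0
      obtain ⟨J', y, hy, hJ'⟩ := exists_mul_eq_of_height_eq_one hB P hht
      obtain ⟨v, hv⟩ := isUnit_of_mul_eq_span K hy hJ'
      have hv_le : (v : FractionalIdeal B⁰ K) ≤ 1 := by
        rw [hv]
        exact coeIdeal_le_one
      have huv : ((u * v⁻¹ : (FractionalIdeal B⁰ K)ˣ) : FractionalIdeal B⁰ K) ≤ 1 := by
        have : (u : FractionalIdeal B⁰ K) ≤ v := by
          rw [hu, hv, coeIdeal_le_coeIdeal]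
          exact hP.1.2
        calc ((u * v⁻¹ : (FractionalIdeal B⁰ K)ˣ) : FractionalIdeal B⁰ K)
            = (u : FractionalIdeal B⁰ K) * ((v⁻¹ : (FractionalIdeal B⁰ K)ˣ) : FractionalIdeal B⁰ K) := rfl
          _ ≤ (v : FractionalIdeal B⁰ K) * ((v⁻¹ : (FractionalIdeal B⁰ K)ˣ) : FractionalIdeal B⁰ K) :=
            mul_le_mul_left this _
          _ = 1 := v.mul_inv
      obtain ⟨I', hI'⟩ := le_one_iff_exists_coeIdeal.mp huv
      have hII' : I ≤ I' := by
        rw [← coeIdeal_le_coeIdeal K, ← hu, hI']
        calc (u : FractionalIdeal B⁰ K)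
            = ((u * v⁻¹ : (FractionalIdeal B⁰ K)ˣ) : FractionalIdeal B⁰ K) * v := by
              rw [← Units.val_mul, inv_mul_cancel_right]
          _ ≤ ((u * v⁻¹ : (FractionalIdeal B⁰ K)ˣ) : FractionalIdeal B⁰ K) * 1 := mul_le_mul_right hv_le _
          _ = _ := mul_one _
      have hne : I ≠ I' := by
        rintro rfl
        rw [← hu] at hI'
        have h1 : u = u * v⁻¹ := Units.ext hI'
        have h2 : v = 1 := by simpa using h1.symm
        rw [h2, Units.val_one] at hv
        apply hPp.ne_top
        rw [← Ideal.one_eq_top]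
        apply (coeIdeal_inj (K := K)).mp
        rw [← hv]
        simp
      have hmem := ih I' (lt_of_le_of_ne hII' hne) (u * v⁻¹) hI'.symm n (hII' hn)
      have hvm : v ∈ grp K g := Subgroup.mem_sup_left (Subgroup.subset_closure ⟨P, hPg, hv⟩)
      simpa using mul_mem hmem hvm

theorem mem_grp_of_mul (g : B) {u w : (FractionalIdeal B⁰ K)ˣ} {x y : K} (hx : x ≠ 0) (hy : y ≠ 0)
    (h : spanSingleton B⁰ x * u = spanSingleton B⁰ y * w) (hw : w ∈ grp K g) : u ∈ grp K g := by
  have h1 : toPrincipalIdeal B K (Units.mk0 x hx) * u = toPrincipalIdeal B K (Units.mk0 y hy) * w := by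
    apply Units.ext
    simpa using h
  have h2 : u = (toPrincipalIdeal B K (Units.mk0 x hx))⁻¹ * (toPrincipalIdeal B K (Units.mk0 y hy) * w) := by
    rw [← h1, inv_mul_cancel_left]
  rw [h2]
  exact mul_mem (inv_mem (Subgroup.mem_sup_right ⟨_, rfl⟩))
    (mul_mem (Subgroup.mem_sup_right ⟨_, rfl⟩) hw)

theorem grp_eq_top [IsNoetherianRing B]
    (hB : ∀ (m : Ideal B) [m.IsMaximal], UniqueFactorizationMonoid (Localization.AtPrime m))
    (g : B) (hg : g ≠ 0) (A : Type*) [CommRing A] [IsDomain A] [Algebra B A] [IsLocalization.Away g A]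
    [UniqueFactorizationMonoid A] : grp K g = ⊤ := by
  rw [eq_top_iff]
  rintro u -
  obtain ⟨a, I₀, ha0, h⟩ := exists_eq_spanSingleton_mul (u : FractionalIdeal B⁰ K)
  have ha : algebraMap B K a ≠ 0 := by simpa using ha0
  have hinj : Function.Injective (algebraMap B A) :=
    IsLocalization.injective A (powers_le_nonZeroDivisors_of_noZeroDivisors hg)
  have hI₀ : IsUnit (I₀ : FractionalIdeal B⁰ K) := by
    have : (I₀ : FractionalIdeal B⁰ K) = spanSingleton B⁰ (algebraMap B K a) * u := by
      rw [h, ← mul_assoc, spanSingleton_mul_spanSingleton, mul_inv_cancel₀ ha, spanSingleton_one, one_mul]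
    rw [this]
    refine IsUnit.mul ?_ u.isUnit
    refine ⟨toPrincipalIdeal B K (Units.mk0 _ ha), by simp⟩
  obtain ⟨w₀, hw₀⟩ := hI₀
  rw [← hw₀] at h
  refine mem_grp_of_mul K g (x := 1) (y := (algebraMap B K a)⁻¹) one_ne_zero (inv_ne_zero ha) (w := w₀) ?_ ?_
  · rw [spanSingleton_one, one_mul, h]
  obtain ⟨J₀, x, hx, hJ₀⟩ := exists_mul_eq_span K (I := I₀) (hw₀ ▸ w₀.isUnit)
  have hmap : I₀.map (algebraMap B A) * J₀.map (algebraMap B A) = Ideal.span {algebraMap B A x} := by
    rw [← Ideal.map_mul, hJ₀, Ideal.map_span, Set.image_singleton]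
  have hx' : algebraMap B A x ≠ 0 := by
    rw [Ne, ← map_zero (algebraMap B A)]
    exact fun h => hx (hinj h)
  obtain ⟨y', hy'⟩ : (I₀.map (algebraMap B A)).IsPrincipal := by
    refine IsGCDMonoid.isPrincipal_of_exists_mul_ne_zero_isPrincipal ⟨J₀.map (algebraMap B A), ?_, ?_⟩
    · rw [hmap]
      simpa using hx'
    · rw [hmap]
      exact ⟨_, rfl⟩
  change _ = Ideal.span {y'} at hy'
  obtain ⟨⟨⟨y, hy⟩, ⟨_, k, rfl⟩⟩, hyk⟩ := (IsLocalization.mem_map_algebraMap_iff (Submonoid.powers g) A).mp
    (hy' ▸ Ideal.mem_span_singleton_self y' : y' ∈ I₀.map (algebraMap B A))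
  dsimp only at hyk
  have hgu : IsUnit (algebraMap B A g) := IsLocalization.Away.algebraMap_isUnit g
  have hy2 : I₀.map (algebraMap B A) = Ideal.span {algebraMap B A y} := by
    rw [hy', ← hyk, Ideal.span_singleton_mul_right_unit]
    rw [map_pow]
    exact hgu.pow k
  have hy0 : y ≠ 0 := by
    rintro rfl
    rw [map_zero] at hy2
    rw [hy2] at hmap
    rw [Ideal.span_singleton_zero, Submodule.bot_mul] at hmap
    exact hx' (Ideal.span_singleton_eq_bot.mp hmap.symm)
  have hloc : ∀ z ∈ I₀, ∃ k : ℕ, g ^ k * z ∈ Ideal.span {y} := by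
    intro z hz
    have h1 : algebraMap B A z ∈ (Ideal.span {y}).map (algebraMap B A) := by
      rw [Ideal.map_span, Set.image_singleton, ← hy2]
      exact Ideal.mem_map_of_mem _ hz
    obtain ⟨⟨⟨b, hb⟩, ⟨_, k, rfl⟩⟩, hbk⟩ := (IsLocalization.mem_map_algebraMap_iff (Submonoid.powers g) A).mp h1
    dsimp only at hbk
    rw [← map_mul] at hbk
    refine ⟨k, ?_⟩
    rw [mul_comm, hinj hbk]
    exact hb
  obtain ⟨S, hS⟩ := (isNoetherianRing_iff_ideal_fg B).mp inferInstance I₀
  choose! k hk using hloc
  let N := ∑ z ∈ S, k z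
  have hN : ∀ z ∈ I₀, g ^ N * z ∈ Ideal.span {y} := by
    intro z hz
    rw [← hS] at hz
    refine Submodule.span_induction (p := fun z _ => g ^ N * z ∈ Ideal.span {y}) ?_ ?_ ?_ ?_ hz
    · intro t ht
      have hle : k t ≤ N := Finset.single_le_sum (f := k) (fun _ _ => Nat.zero_le _) ht
      rw [← Nat.sub_add_cancel hle, pow_add, mul_assoc]
      exact Ideal.mul_mem_left _ _ (hk t (hS ▸ Ideal.subset_span ht))
    · simp
    · intro t t' _ _ h1 h2
      rw [mul_add]
      exact add_mem h1 h2
    · intro b t _ h1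
      rw [smul_eq_mul, mul_left_comm]
      exact Ideal.mul_mem_left _ _ h1
  let I : Ideal B := (Ideal.span {g ^ N} * I₀).colon {y}
  have hI : Ideal.span {y} * I = Ideal.span {g ^ N} * I₀ := by
    apply le_antisymm
    · intro z hz
      obtain ⟨b, hb, rfl⟩ := Ideal.mem_span_singleton_mul.mp hz
      rw [mul_comm y b]
      exact Submodule.mem_colon_singleton.mp hb
    · intro z hz
      obtain ⟨b, hb, rfl⟩ := Ideal.mem_span_singleton_mul.mp hz
      obtain ⟨c, hc⟩ := Ideal.mem_span_singleton'.mp (hN b hb)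
      refine Ideal.mem_span_singleton_mul.mpr ⟨c, ?_, ?_⟩
      · refine Submodule.mem_colon_singleton.mpr ?_
        rw [smul_eq_mul, hc]
        exact hz
      · rw [mul_comm]
        exact hc
  have hgI : g ^ N ∈ I := by
    refine Submodule.mem_colon_singleton.mpr ?_
    rw [smul_eq_mul]
    exact Ideal.mul_mem_mul (Ideal.mem_span_singleton_self _) hy
  have hgN : g ^ N ≠ 0 := pow_ne_zero _ hg
  have hFI : spanSingleton B⁰ (algebraMap B K y) * (I : FractionalIdeal B⁰ K) =
      spanSingleton B⁰ (algebraMap B K (g ^ N)) * (I₀ : FractionalIdeal B⁰ K) := by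
    rw [← coeIdeal_span_singleton, ← coeIdeal_span_singleton, ← coeIdeal_mul, ← coeIdeal_mul, hI]
  have hyK : algebraMap B K y ≠ 0 := by simpa using hy0
  have hgK : algebraMap B K (g ^ N) ≠ 0 := by
    rw [Ne, ← map_zero (algebraMap B K)]
    exact fun h => hgN (IsFractionRing.injective B K h)
  have hIu : IsUnit (I : FractionalIdeal B⁰ K) := by
    have : (I : FractionalIdeal B⁰ K) = spanSingleton B⁰ (algebraMap B K y)⁻¹ *
        (spanSingleton B⁰ (algebraMap B K (g ^ N)) * w₀) := by
      rw [hw₀, ← hFI, ← mul_assoc, spanSingleton_mul_spanSingleton, inv_mul_cancel₀ hyK, spanSingleton_one, one_mul]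
    rw [this]
    refine IsUnit.mul ?_ (IsUnit.mul ?_ w₀.isUnit)
    · exact ⟨toPrincipalIdeal B K (Units.mk0 _ (inv_ne_zero hyK)), by simp⟩
    · exact ⟨toPrincipalIdeal B K (Units.mk0 _ hgK), by simp⟩
  obtain ⟨w, hw⟩ := hIu
  refine mem_grp_of_mul K g (w := w) hgK hyK ?_ (mem_grp_of_pow_mem K hB g hg I w hw N hgI)
  rw [hw, hw₀, hFI]

theorem fg_classGroup (B : Type*) [CommRing B] [IsDomain B] [IsNoetherianRing B]
    (hB : ∀ (m : Ideal B) [m.IsMaximal], UniqueFactorizationMonoid (Localization.AtPrime m))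
    (g : B) (hg : g ≠ 0) (A : Type*) [CommRing A] [IsDomain A] [Algebra B A] [IsLocalization.Away g A]
    [UniqueFactorizationMonoid A] : Group.FG (ClassGroup B) := by
  have htop := grp_eq_top (FractionRing B) hB g hg A
  rw [Group.fg_iff]
  refine ⟨ClassGroup.mk (FractionRing B) '' gens (FractionRing B) g, ?_, (finite_gens _ g).image _⟩
  rw [← MonoidHom.map_closure]
  have h1 : Subgroup.map (ClassGroup.mk (FractionRing B)) (grp (FractionRing B) g) = ⊤ := by
    rw [htop, ← MonoidHom.range_eq_map, MonoidHom.range_eq_top]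
    intro x
    refine ClassGroup.induction (FractionRing B) (P := fun x => ∃ a, ClassGroup.mk (FractionRing B) a = x) (fun I => ⟨I, rfl⟩) x
  rw [grp, Subgroup.map_sup] at h1
  rw [← h1, eq_comm, sup_eq_left]
  rintro _ ⟨_, ⟨x, rfl⟩, rfl⟩
  have : ClassGroup.mk (FractionRing B) (toPrincipalIdeal B (FractionRing B) x) = 1 := by
    rw [ClassGroup.mk_eq_one_iff, coe_toPrincipalIdeal, coe_spanSingleton]
    exact ⟨⟨_, rfl⟩⟩
  rw [this]
  exact one_mem _

end

end Groth.Agent.MultTori.K984
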