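import Mathlib.GroupTheory.Finiteness
import Mathlib.RingTheory.Localization.FractionRing
import Mathlib.RingTheory.UniqueFactorizationDomain.Basic
import Mathlib.RingTheory.FiniteType
import Mathlib.RingTheory.Finiteness.Basic
import Mathlib.RingTheory.Noetherian.Basic

/-!
# Common localizations of two models of a finitely generated field, and their units
-/

set_option autoImplicit false

open nonZeroDivisors

namespace Groth.Agent.MultTori.K984

section
variable {B : Type*} [CommRing B] [IsDomain B] (K : Type*) [Field K] [Algebra B K] [IsFractionRing B K]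

/-- The subring `B[1/g]` of `K`. -/
def loc (g : B) : Subring K where
  carrier := {x | ∃ (n : ℕ) (a : B), x * algebraMap B K g ^ n = algebraMap B K a}
  zero_mem' := ⟨0, 0, by simp⟩
  one_mem' := ⟨0, 1, by simp⟩
  add_mem' := by
    rintro x y ⟨n, a, h⟩ ⟨m, b, h'⟩
    refine ⟨n + m, a * g ^ m + b * g ^ n, ?_⟩
    rw [map_add, map_mul, map_mul, ← h, ← h', map_pow, map_pow]
    ring
  mul_mem' := by
    rintro x y ⟨n, a, h⟩ ⟨m, b, h'⟩
    refine ⟨n + m, a * b, ?_⟩
    rw [map_mul, ← h, ← h']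
    ring
  neg_mem' := by
    rintro x ⟨n, a, h⟩
    exact ⟨n, -a, by rw [map_neg, ← h]; ring⟩

theorem mem_loc {g : B} {x : K} : x ∈ loc K g ↔ ∃ (n : ℕ) (a : B), x * algebraMap B K g ^ n = algebraMap B K a :=
  Iff.rfl

theorem algebraMap_mem_loc (g b : B) : algebraMap B K b ∈ loc K g := ⟨0, b, by simp⟩

theorem inv_mem_loc (g : B) (hg : g ≠ 0) : (algebraMap B K g)⁻¹ ∈ loc K g :=
  ⟨1, 1, by rw [pow_one, map_one, inv_mul_cancel₀ (by simpa using hg)]⟩

theorem loc_le {g : B} (hg : g ≠ 0) (A : Subring K) (h : ∀ b : B, algebraMap B K b ∈ A)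
    (h' : (algebraMap B K g)⁻¹ ∈ A) : loc K g ≤ A := by
  rintro x ⟨n, a, hx⟩
  have hg' : algebraMap B K g ≠ 0 := by simpa using hg
  have : x = algebraMap B K a * (algebraMap B K g)⁻¹ ^ n := by
    rw [← hx, mul_assoc, ← mul_pow, mul_inv_cancel₀ hg', one_pow, mul_one]
  rw [this]
  exact mul_mem (h a) (pow_mem h' n)

variable (R : Type*) [CommRing R] [IsDomain R] [Algebra R K] [IsFractionRing R K]

theorem exists_common_den [Algebra.FiniteType ℤ B] :
    ∃ s : R, s ≠ 0 ∧ ∀ b : B, algebraMap B K b ∈ loc K s := by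
  obtain ⟨S, hS⟩ := (‹Algebra.FiniteType ℤ B› : Algebra.FiniteType ℤ B).out
  have h : ∀ b : B, ∃ s : R, s ≠ 0 ∧ ∃ a : R, algebraMap B K b * algebraMap R K s = algebraMap R K a := by
    intro b
    obtain ⟨x, ⟨y, hy⟩, hxy⟩ := IsLocalization.exists_mk'_eq R⁰ (algebraMap B K b)
    refine ⟨y, nonZeroDivisors.ne_zero hy, x, ?_⟩
    rw [← hxy, mul_comm]
    exact IsLocalization.mk'_spec' K x ⟨y, hy⟩
  choose s hs a ha using h
  refine ⟨∏ b ∈ S, s b, Finset.prod_ne_zero_iff.mpr fun b _ => hs b, fun b => ?_⟩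
  have hb : b ∈ Algebra.adjoin ℤ (S : Set B) := hS ▸ Algebra.mem_top
  induction hb using Algebra.adjoin_induction with
  | mem x hx =>
    obtain ⟨t, ht⟩ := Finset.dvd_prod_of_mem s hx
    refine ⟨1, a x * t, ?_⟩
    rw [pow_one, ht, map_mul, map_mul, ← mul_assoc, ha]
  | algebraMap r =>
    simp
  | add x y _ _ hx hy =>
    rw [map_add]
    exact add_mem hx hy
  | mul x y _ _ hx hy =>
    rw [map_mul]
    exact mul_mem hx hy

theorem exists_loc_eq [Algebra.FiniteType ℤ B] [Algebra.FiniteType ℤ R] :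
    ∃ (g : B) (r : R), g ≠ 0 ∧ r ≠ 0 ∧ loc K g = loc K r := by
  obtain ⟨s, hs, hBs⟩ := exists_common_den (B := B) K R
  obtain ⟨t, ht, hRt⟩ := exists_common_den (B := R) K B
  obtain ⟨m, bs, hbs⟩ := hRt s
  obtain ⟨n, at', hat⟩ := hBs t
  have hsK : algebraMap R K s ≠ 0 := by simpa using hs
  have htK : algebraMap B K t ≠ 0 := by simpa using ht
  have hbs0 : bs ≠ 0 := by
    rintro rfl
    rw [map_zero] at hbs
    exact mul_ne_zero hsK (pow_ne_zero m htK) hbs
  have hat0 : at' ≠ 0 := by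
    rintro rfl
    rw [map_zero] at hat
    exact mul_ne_zero htK (pow_ne_zero n hsK) hat
  have hbsK : algebraMap B K bs ≠ 0 := by simpa using hbs0
  have hatK : algebraMap R K at' ≠ 0 := by simpa using hat0
  refine ⟨t * bs, s * at', mul_ne_zero ht hbs0, mul_ne_zero hs hat0, le_antisymm ?_ ?_⟩
  · -- `s⁻¹` and `t⁻¹` lie in `R[1/r]`
    have h1 : (algebraMap R K (s * at'))⁻¹ ∈ loc K (s * at') := inv_mem_loc K _ (mul_ne_zero hs hat0)
    have h2 : (algebraMap R K s)⁻¹ ∈ loc K (s * at') := by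
      have := mul_mem (algebraMap_mem_loc K (s * at') at') h1
      rwa [map_mul, mul_inv, mul_left_comm, mul_inv_cancel₀ hatK, mul_one] at this
    have h3 : (algebraMap R K at')⁻¹ ∈ loc K (s * at') := by
      have := mul_mem (algebraMap_mem_loc K (s * at') s) h1
      rwa [map_mul, mul_inv, ← mul_assoc, mul_inv_cancel₀ hsK, one_mul] at this
    have h4 : (algebraMap B K t)⁻¹ ∈ loc K (s * at') := by
      have h5 : (algebraMap B K t)⁻¹ = algebraMap R K s ^ n * (algebraMap R K at')⁻¹ := by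
        rw [← hat, mul_inv, mul_left_comm, mul_inv_cancel₀ (pow_ne_zero n hsK), mul_one]
      rw [h5]
      exact mul_mem (pow_mem (algebraMap_mem_loc K _ s) n) h3
    have hle : loc K s ≤ loc K (s * at') := loc_le K hs _ (algebraMap_mem_loc K _) h2
    refine loc_le K (mul_ne_zero ht hbs0) _ (fun b => hle (hBs b)) ?_
    rw [map_mul, ← hbs, mul_inv, mul_inv, ← inv_pow]
    exact mul_mem h4 (mul_mem h2 (pow_mem h4 m))
  · have h1 : (algebraMap B K (t * bs))⁻¹ ∈ loc K (t * bs) := inv_mem_loc K _ (mul_ne_zero ht hbs0)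
    have h2 : (algebraMap B K t)⁻¹ ∈ loc K (t * bs) := by
      have := mul_mem (algebraMap_mem_loc K (t * bs) bs) h1
      rwa [map_mul, mul_inv, mul_left_comm, mul_inv_cancel₀ hbsK, mul_one] at this
    have h3 : (algebraMap B K bs)⁻¹ ∈ loc K (t * bs) := by
      have := mul_mem (algebraMap_mem_loc K (t * bs) t) h1
      rwa [map_mul, mul_inv, ← mul_assoc, mul_inv_cancel₀ htK, one_mul] at this
    have h4 : (algebraMap R K s)⁻¹ ∈ loc K (t * bs) := by
      have h5 : (algebraMap R K s)⁻¹ = algebraMap B K t ^ m * (algebraMap B K bs)⁻¹ := by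
        rw [← hbs, mul_inv, mul_left_comm, mul_inv_cancel₀ (pow_ne_zero m htK), mul_one]
      rw [h5]
      exact mul_mem (pow_mem (algebraMap_mem_loc K _ t) m) h3
    have hle : loc K t ≤ loc K (t * bs) := loc_le K ht _ (algebraMap_mem_loc K _) h2
    refine loc_le K (mul_ne_zero hs hat0) _ (fun b => hle (hRt b)) ?_
    rw [map_mul, ← hat, mul_inv, mul_inv, ← inv_pow]
    exact mul_mem h4 (mul_mem h2 (pow_mem h4 n))

/-- The subgroup of `Kˣ` generated by the units of `R` and the prime factors of `r`. -/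
theorem exists_fg_subgroup [UniqueFactorizationMonoid R] (hR : Group.FG Rˣ) (r : R) (hr : r ≠ 0) :
    ∃ H : Subgroup Kˣ, H.FG ∧ ∀ u : Kˣ, (u : K) ∈ loc K r → ((u⁻¹ : Kˣ) : K) ∈ loc K r → u ∈ H := by
  classical
  let H₁ : Subgroup Kˣ := (Units.map (algebraMap R K : R →* K)).range
  have hH₁ : H₁.FG := by
    rw [← Group.fg_iff_subgroup_fg]
    exact Group.fg_range _
  let S : Set Kˣ := {u | ∃ p ∈ UniqueFactorizationMonoid.factors r, (u : K) = algebraMap R K p}
  have hS : S.Finite := by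
    refine Set.Finite.subset (Set.Finite.preimage (f := (Units.val : Kˣ → K)) Units.val_injective.injOn
      (((UniqueFactorizationMonoid.factors r).toFinset.finite_toSet).image (algebraMap R K))) ?_
    rintro u ⟨p, hp, h⟩
    exact ⟨p, by simpa using hp, h.symm⟩
  have hinj := IsFractionRing.injective R K
  have key : ∀ a : R, a ≠ 0 → (∃ n, a ∣ r ^ n) → ∀ u : Kˣ, (u : K) = algebraMap R K a → u ∈ H₁ ⊔ Subgroup.closure S := by
    intro a
    induction a using UniqueFactorizationMonoid.induction_on_prime with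
    | h₁ => exact fun h => (h rfl).elim
    | h₂ x hx =>
      rintro - - u hu
      obtain ⟨x, rfl⟩ := hx
      exact Subgroup.mem_sup_left ⟨x, Units.ext hu.symm⟩
    | h₃ a p ha hp ih =>
      rintro - ⟨n, hn⟩ u hu
      have hpr : p ∣ r := hp.dvd_of_dvd_pow ((dvd_mul_right p a).trans hn)
      obtain ⟨q, hq, hpq⟩ := UniqueFactorizationMonoid.exists_mem_factors_of_dvd hr hp.irreducible hpr
      have hpq' := hpq
      obtain ⟨v, hv⟩ := hpq'
      have hq0 : algebraMap R K q ≠ 0 := by
        have hqp : q ≠ 0 := (UniqueFactorizationMonoid.prime_of_factor q hq).ne_zero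
        rw [Ne, ← map_zero (algebraMap R K)]
        exact fun h => hqp (hinj h)
      have ha0 : algebraMap R K a ≠ 0 := by
        rw [Ne, ← map_zero (algebraMap R K)]
        exact fun h => ha (hinj h)
      have h1 := ih ha ⟨n, (dvd_mul_left a p).trans hn⟩ (Units.mk0 _ ha0) rfl
      have h2 : Units.mk0 _ hq0 ∈ H₁ ⊔ Subgroup.closure S :=
        Subgroup.mem_sup_right (Subgroup.subset_closure ⟨q, hq, rfl⟩)
      have h3 : Units.map (algebraMap R K : R →* K) v ∈ H₁ ⊔ Subgroup.closure S :=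
        Subgroup.mem_sup_left ⟨v, rfl⟩
      have h4 : u = Units.mk0 _ hq0 * (Units.map (algebraMap R K : R →* K) v)⁻¹ * Units.mk0 _ ha0 := by
        rw [mul_right_comm, eq_mul_inv_iff_mul_eq]
        apply Units.ext
        change (u : K) * algebraMap R K v = algebraMap R K q * algebraMap R K a
        rw [hu, ← map_mul, ← map_mul, ← hv]
        ring_nf
      rw [h4]
      exact mul_mem (mul_mem h2 (inv_mem h3)) h1
  refine ⟨H₁ ⊔ Subgroup.closure S, Subgroup.FG.sup hH₁ ?_, ?_⟩
  · rw [Subgroup.fg_iff]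
    exact ⟨S, rfl, hS⟩
  · rintro u ⟨n, a, hn⟩ ⟨m, b, hm⟩
    have hrK : algebraMap R K r ≠ 0 := by simpa using hr
    have hab : a * b = r ^ (n + m) := by
      apply hinj
      rw [map_mul, ← hn, ← hm, map_pow, pow_add]
      calc (u : K) * algebraMap R K r ^ n * (((u⁻¹ : Kˣ) : K) * algebraMap R K r ^ m)
          = ((u : K) * ((u⁻¹ : Kˣ) : K)) * (algebraMap R K r ^ n * algebraMap R K r ^ m) := by ring
        _ = _ := by rw [Units.mul_inv, one_mul]
    have ha0 : a ≠ 0 := by
      rintro rfl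
      rw [zero_mul] at hab
      exact pow_ne_zero _ hr hab.symm
    have haK : algebraMap R K a ≠ 0 := by
      rw [Ne, ← map_zero (algebraMap R K)]
      exact fun h => ha0 (hinj h)
    have h1 := key a ha0 ⟨n + m, Dvd.intro b hab⟩ (Units.mk0 _ haK) rfl
    have h2 := key r hr ⟨1, by rw [pow_one]⟩ (Units.mk0 _ hrK) rfl
    have h3 : u = Units.mk0 _ haK * (Units.mk0 _ hrK ^ n)⁻¹ := by
      rw [eq_mul_inv_iff_mul_eq]
      apply Units.ext
      simpa using hn
    rw [h3]
    exact mul_mem h1 (inv_mem (pow_mem h2 n))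

end

/-- Subgroups of finitely generated commutative groups are finitely generated. -/
theorem fg_of_injective {G H : Type*} [CommGroup G] [CommGroup H] (f : G →* H) (hf : Function.Injective f)
    [hH : Group.FG H] : Group.FG G := by
  rw [GroupFG.iff_add_fg] at hH ⊢
  have h1 : Module.Finite ℤ (Additive H) := Module.Finite.iff_addGroup_fg.mpr hH
  have h2 : Module.Finite ℤ (Additive G) :=
    Module.Finite.of_injective (MonoidHom.toAdditive f).toIntLinearMap hf
  exact Module.Finite.iff_addGroup_fg.mp h2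

end Groth.Agent.MultTori.K984
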