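import Groth.Agent.MultTori.K441.Defs
import Groth.Agent.MultTori.K984.ClassGroupFg
import Groth.Agent.MultTori.K984.CommonLoc
import Groth.Agent.S2821
import Mathlib.RingTheory.RegularLocalRing.Defs
import Mathlib.RingTheory.PicardGroup
import Mathlib.RingTheory.Localization.AsSubring
import Mathlib.GroupTheory.MonoidLocalization.UniqueFactorization

/-!
# RQ-D7: regular finitely generated `ℤ`-algebras with a good fraction field

The unit group and the Picard group of a regular domain of finite type over `ℤ` whose fraction field is also the
fraction field of a factorial domain of finite type over `ℤ` with finitely generated units are finitely generated.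
-/

set_option autoImplicit false

universe u

open nonZeroDivisors

namespace Groth.Agent.MultTori.K984

open Groth.Agent.MultTori.K441

theorem mem_ofField_iff {B K : Type*} [CommRing B] [IsDomain B] [Field K] [Algebra B K] [IsFractionRing B K]
    (g : B) (hg : g ≠ 0) (x : K) :
    x ∈ Localization.subalgebra.ofField K (Submonoid.powers g) (powers_le_nonZeroDivisors_of_noZeroDivisors hg) ↔
      x ∈ loc K g := by
  have hgK : algebraMap B K g ≠ 0 := by simpa using hg
  constructor
  · rintro ⟨a, _, ⟨n, rfl⟩, rfl⟩
    refine ⟨n, a, ?_⟩
    rw [map_pow, inv_mul_cancel_right₀ (pow_ne_zero n hgK)]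
  · rintro ⟨n, a, h⟩
    refine ⟨a, g ^ n, ⟨n, rfl⟩, ?_⟩
    rw [map_pow, ← h, mul_inv_cancel_right₀ (pow_ne_zero n hgK)]

/-- RQ-D7 -/
theorem fg_of_good (K : Type u) [Field K] (hK : Good K) (B : Type u) [CommRing B] [IsDomain B]
    [IsRegularRing B] [Algebra.FiniteType ℤ B] [Algebra B K] [IsFractionRing B K] :
    Group.FG Bˣ ∧ Group.FG (CommRing.Pic B) := by
  obtain ⟨R, _, _, _, _, _, _, hR⟩ := hK
  obtain ⟨g, r, hg, hr, hgr⟩ := exists_loc_eq (B := B) K R
  constructor
  · obtain ⟨H, hH, hHu⟩ := exists_fg_subgroup K R hR r hr
    have hmem : ∀ b : Bˣ, Units.map (algebraMap B K : B →* K) b ∈ H := fun b => by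
      refine hHu _ ?_ ?_
      · rw [← hgr]
        exact algebraMap_mem_loc K g _
      · rw [← hgr, ← map_inv]
        exact algebraMap_mem_loc K g _
    have : Group.FG H := (Group.fg_iff_subgroup_fg H).mpr hH
    refine fg_of_injective ((Units.map (algebraMap B K : B →* K)).codRestrict H hmem) ?_
    intro x y hxy
    apply Units.ext
    apply IsFractionRing.injective B K
    exact congr_arg (fun z : H => ((z : Kˣ) : K)) hxy
  · let A : Subalgebra B K := Localization.subalgebra.ofField K (Submonoid.powers g)
      (powers_le_nonZeroDivisors_of_noZeroDivisors hg)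
    let A' : Subalgebra R K := Localization.subalgebra.ofField K (Submonoid.powers r)
      (powers_le_nonZeroDivisors_of_noZeroDivisors hr)
    have h1 : UniqueFactorizationMonoid A' :=
      UniqueFactorizationMonoid.of_isLocalization (Submonoid.powers r) A'
    have hAA' : ∀ x : K, x ∈ A' ↔ x ∈ A := fun x => by
      rw [mem_ofField_iff g hg x, mem_ofField_iff r hr x, hgr]
    have e : A' ≃* A :=
      { toFun := fun x => ⟨x.1, (hAA' _).mp x.2⟩
        invFun := fun x => ⟨x.1, (hAA' _).mpr x.2⟩
        left_inv := fun _ => rfl
        right_inv := fun _ => rfl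
        map_mul' := fun _ _ => rfl }
    have h2 : UniqueFactorizationMonoid A := e.uniqueFactorizationMonoid h1
    have h3 : IsLocalization.Away g A :=
      Localization.subalgebra.isLocalization_ofField K (Submonoid.powers g)
        (powers_le_nonZeroDivisors_of_noZeroDivisors hg)
    have h4 : Group.FG (ClassGroup B) :=
      fg_classGroup B (fun m _ => (S2821.result (Localization.AtPrime m)).2) g hg A
    exact Group.fg_of_surjective (f := (ClassGroup.equivPic B).toMonoidHom) (ClassGroup.equivPic B).surjective

end Groth.Agent.MultTori.K984
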